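/-
Fibre dimensions of an invariant morphism with one orbit in each geometric fibre.
-/
import Groth.Agent.Lib.GrpNeutral20.Gen
import Groth.Agent.Lib.GenFin12.Basic
import Groth.Agent.Lib.TopDimLib.Basic
import Groth.Agent.Lib.FibDimLocConst4
import Groth.Agent.Lib.UnivOpenFin5.Normal
import Groth.Agent.S0402
import Groth.Agent.S2568
import Groth.Agent.S3388
import Groth.Prelude.Def_W4bk4git07Quot

set_option autoImplicit false
set_option linter.style.haveILetI false
set_option backward.isDefEq.respectTransparency false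
set_option backward.isDefEq.respectTransparency.types false

universe u

open CategoryTheory CategoryTheory.Limits MonoidalCategory CartesianMonoidalCategory AlgebraicGeometry
open scoped MonObj

noncomputable section

namespace Groth.Agent.OrbQuot14

open Groth.Agent.FibDim14

variable {S : Scheme.{u}} {G X Y : Over S} [GrpObj G] {a : AlgGrp.Action G X} {φ : X ⟶ Y}

/-- One orbit in each geometric fibre: `G ×_S X ⟶ X ×_Y X` is surjective. -/
theorem surjective_psiY (hi : GIT.IsInvariant a φ)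
    (hii : ∀ (Ω : Type u) [Field Ω] [IsAlgClosed Ω] (T : Over S) (_ : T.left ≅ Spec (CommRingCat.of Ω))
      (x₁ x₂ : T ⟶ X), x₁ ≫ φ = x₂ ≫ φ → ∃ g : T ⟶ G, lift g x₂ ≫ a.act = x₁) :
    Function.Surjective (GIT.PsiY a φ hi).base := by
  intro w
  let P := pullback φ.left φ.left
  let Ω := AlgebraicClosure (P.residueField w)
  let t : Spec (CommRingCat.of Ω) ⟶ P :=
    Spec.map (CommRingCat.ofHom (algebraMap (P.residueField w) Ω)) ≫ P.fromSpecResidueField w
  let T : Over S := Over.mk (t ≫ pullback.fst φ.left φ.left ≫ X.hom)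
  let x₁ : T ⟶ X := Over.homMk (t ≫ pullback.fst φ.left φ.left) (Category.assoc _ _ _)
  let x₂ : T ⟶ X := Over.homMk (t ≫ pullback.snd φ.left φ.left) (by
    show (t ≫ pullback.snd φ.left φ.left) ≫ X.hom = t ≫ pullback.fst φ.left φ.left ≫ X.hom
    simp only [Category.assoc]
    rw [← Over.w φ, pullback.condition_assoc])
  obtain ⟨g, hg⟩ := hii Ω T (Iso.refl _) x₁ x₂ (by
    ext1
    show (t ≫ pullback.fst φ.left φ.left) ≫ φ.left = (t ≫ pullback.snd φ.left φ.left) ≫ φ.left
    simp only [Category.assoc, pullback.condition])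
  have h : (lift g x₂).left ≫ GIT.PsiY a φ hi = t := by
    refine pullback.hom_ext ?_ ?_
    · rw [Category.assoc, GIT.PsiY, pullback.lift_fst, ← Over.comp_left, hg]
      rfl
    · rw [Category.assoc, GIT.PsiY, pullback.lift_snd, ← Over.comp_left, lift_snd]
      rfl
  refine ⟨(lift g x₂).left (IsLocalRing.closedPoint Ω), ?_⟩
  rw [← Scheme.Hom.comp_apply, h]
  exact Scheme.fromSpecResidueField_apply w _

theorem dim_fiber_eq {X Y : Scheme.{u}} (f : X ⟶ Y) (y : Y) :
    topologicalKrullDim ↥(f ⁻¹' {y}) = topologicalKrullDim ↥(f.fiber y) :=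
  (IsHomeomorph.topologicalKrullDim_eq _ (f.fiberHomeo y).isHomeomorph).symm

theorem isGeomUnibranch_stalk {Z : Scheme.{u}} [IsIntegral Z]
    (hZ : ∀ U : Z.affineOpens, IsIntegrallyClosed Γ(Z, U)) (z : Z) :
    CAlg2.IsGeomUnibranch (Z.presheaf.stalk z) := by
  obtain ⟨U, hU, hzU, -⟩ := exists_isAffineOpen_mem_and_subset (x := z) (U := ⊤) trivial
  haveI : Nonempty (U : Z.Opens) := ⟨⟨z, hzU⟩⟩
  haveI : IsIntegrallyClosed Γ(Z, U) := hZ ⟨U, hU⟩
  letI := TopCat.Presheaf.algebra_section_stalk Z.presheaf (⟨z, hzU⟩ : U)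
  haveI := hU.isLocalization_stalk ⟨z, hzU⟩
  haveI : IsIntegrallyClosed (Z.presheaf.stalk z) :=
    isIntegrallyClosed_of_isLocalization (R := Γ(Z, U)) _ (hU.primeIdealOf ⟨z, hzU⟩).asIdeal.primeCompl
      (Ideal.primeCompl_le_nonZeroDivisors _)
  exact UnivOpenFin5.isGeomUnibranch_of_normal _

/-- The fibres of an invariant morphism with one orbit in each geometric fibre are equidimensional of the generic
dimension. -/
theorem fibreDimAt_eq [IsLocallyNoetherian S] [LocallyOfFiniteType G.hom] [UniversallyOpen G.hom]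
    [IsIntegral X.left] [IsIntegral Y.left] [LocallyOfFiniteType X.hom]
    [LocallyOfFiniteType φ.left] [IsDominant φ.left] (hi : GIT.IsInvariant a φ)
    (hsurj : Function.Surjective (GIT.PsiY a φ hi).base) (x : X.left) :
    FlatMor.fibreDimAt φ.left x = topologicalKrullDim ↥(φ.left.fiber (φ.left (genericPoint X.left))) := by
  classical
  have hη : φ.left (genericPoint X.left) = genericPoint Y.left :=
    GenFin12.apply_genericPoint φ.left
  refine le_antisymm ?_ (hη ▸ S3388.result φ.left x)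
  let η₀ := genericPoint X.left
  let Ψ := GIT.PsiY a φ hi
  let p₂ : pullback φ.left φ.left ⟶ X.left := pullback.snd φ.left φ.left
  let p₁ : pullback φ.left φ.left ⟶ X.left := pullback.fst φ.left φ.left
  let h : (G ⊗ X).left ⟶ X.left := (snd G X).left
  have hsq : IsPullback (fst G X).left h G.hom X.hom := IsPullback.of_hasPullback G.hom X.hom
  haveI : LocallyOfFiniteType h := MorphismProperty.of_isPullback hsq inferInstance
  haveI : UniversallyOpen h := MorphismProperty.of_isPullback hsq inferInstance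
  have hΨ : Ψ ≫ p₂ = h := pullback.lift_snd _ _ _
  haveI : LocallyOfFiniteType (Ψ ≫ p₂) := hΨ.symm ▸ inferInstance
  haveI : LocallyOfFiniteType Ψ := locallyOfFiniteType_of_comp Ψ p₂
  have hgen : ∀ x : X.left, η₀ ⤳ x := fun x => genericPoint_specializes x
  have hopen : IsOpenMap h := h.isOpenMap
  -- the group fibres
  let g₀ := topologicalKrullDim ↥(G.hom.fiber (X.hom η₀))
  have hh : ∀ z, FlatMor.fibreDimAt h z = topologicalKrullDim ↥(G.hom.fiber (X.hom (h z))) := fun z => by
    rw [fibreDimAt_baseChange hsq z, GrpNeutral20.fibreDimAt_eq, dim_fiber_eq]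
    rw [show G.hom ((fst G X).left z) = X.hom (h z) by rw [← Scheme.Hom.comp_apply, hsq.w]; rfl]
  have hgle : ∀ z, FlatMor.fibreDimAt h z ≤ g₀ := fun z => by
    rw [hh]
    exact FibDimLocConst4.dim_fiber_le_of_isOpenMap G.hom G.hom.isOpenMap ((hgen (h z)).map X.hom.continuous)
  -- a point over the generic point with the smallest fibre dimension
  have hne : ∃ z, h z = η₀ :=
    ⟨(lift (toUnit X ≫ η[G]) (𝟙 X)).left η₀, by
      show ((lift (toUnit X ≫ η[G]) (𝟙 X)).left ≫ (snd G X).left) η₀ = η₀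
      rw [← Over.comp_left, lift_snd]
      rfl⟩
  let P : ℕ → Prop := fun n => ∃ z, h z = η₀ ∧ FlatMor.fibreDimAt Ψ z = (n : WithBot ℕ∞)
  have hP : ∃ n, P n := by
    obtain ⟨z, hz⟩ := hne
    obtain ⟨z', -, -, hd, -⟩ := exists_fibreDimAt_eq Ψ z
    exact ⟨_, z, hz, hd⟩
  obtain ⟨z₀, hz₀, hm⟩ := Nat.find_spec hP
  let m := Nat.find hP
  have hmin : ∀ z, (m : WithBot ℕ∞) ≤ FlatMor.fibreDimAt Ψ z := by
    intro z
    obtain ⟨z₁, hz₁, hz₁η⟩ := EGA43Top.liftsAt_of_isOpenAt (f := h) (x := z)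
      (fun U hU => hopen.image_mem_nhds hU) η₀ (hgen (h z))
    obtain ⟨z', -, -, hd, -⟩ := exists_fibreDimAt_eq Ψ z₁
    obtain ⟨z'', -, -, hd', -⟩ := exists_fibreDimAt_eq Ψ z
    have h1 : m ≤ rd Ψ z' := Nat.find_le ⟨z₁, hz₁η, hd⟩
    have h2 : z₁ ∈ {w | FlatMor.fibreDimAt Ψ w ≤ (rd Ψ z'' : WithBot ℕ∞)} :=
      hz₁.mem_open (S0402.result Ψ _) hd'.le
    rw [Set.mem_ofPred_eq, hd] at h2
    rw [hd']
    exact (Nat.cast_le.2 h1).trans h2
  -- upper bound at the generic point
  have hsq₂ : IsPullback p₁ p₂ φ.left φ.left := IsPullback.of_hasPullback _ _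
  have hb : g₀ ≤ (m : WithBot ℕ∞) + topologicalKrullDim ↥(φ.left.fiber (φ.left η₀)) := by
    have e1 : FlatMor.fibreDimAt h z₀ = g₀ := by rw [hh, hz₀]
    have e2 := fibreDimAt_comp_le Ψ p₂ z₀
    rw [show FlatMor.fibreDimAt (Ψ ≫ p₂) z₀ = FlatMor.fibreDimAt h z₀ by rw [hΨ], e1, hm] at e2
    refine e2.trans (add_le_add le_rfl ?_)
    rw [fibreDimAt_baseChange hsq₂]
    have e3 : φ.left (p₁ (Ψ z₀)) = φ.left η₀ := by
      rw [← Scheme.Hom.comp_apply, hsq₂.w, Scheme.Hom.comp_apply, ← Scheme.Hom.comp_apply Ψ, hΨ, hz₀]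
    rw [← e3]
    exact TopDimLib.localDim_le _
  -- every point
  let Δ : X.left ⟶ pullback φ.left φ.left := pullback.lift (𝟙 _) (𝟙 _) rfl
  obtain ⟨w, -, hwx, hdw, -⟩ := exists_fibreDimAt_eq p₂ (Δ x)
  obtain ⟨z, hz⟩ := hsurj w
  obtain ⟨z', -, hz', hdz, -⟩ := exists_fibreDimAt_eq Ψ z
  have hk : ((rd p₂ w + m : ℕ) : WithBot ℕ∞) ≤ g₀ := by
    have e1 : rd h z' = rd p₂ w + rd Ψ z' := by
      rw [show rd h z' = rd (Ψ ≫ p₂) z' by rw [hΨ], rd_comp, hz', hz]
    have e2 : m ≤ rd Ψ z' := by exact_mod_cast (hmin z).trans hdz.le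
    refine le_trans (Nat.cast_le.2 (e1 ▸ Nat.add_le_add_left e2 _)) ?_
    exact (rd_le_fibreDimAt h (specializes_refl z') rfl).trans (hgle z')
  have hx : FlatMor.fibreDimAt φ.left x = (rd p₂ w : WithBot ℕ∞) := by
    rw [← hdw, fibreDimAt_baseChange hsq₂, ← Scheme.Hom.comp_apply, pullback.lift_fst]
    rfl
  rw [hx]
  have h3 := hk.trans hb
  revert h3
  generalize topologicalKrullDim ↥(φ.left.fiber (φ.left η₀)) = D
  intro h3
  induction D using WithBot.recBotCoe with
  | bot => simp at h3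
  | coe e =>
    have h4 : ((rd p₂ w + m : ℕ) : ℕ∞) ≤ (m : ℕ∞) + e := by exact_mod_cast h3
    have h5 : ((rd p₂ w : ℕ) : ℕ∞) ≤ e := by
      rw [Nat.cast_add, add_comm] at h4
      exact (ENat.addLECancellable_natCast m).add_le_add_iff_left.1 h4
    exact_mod_cast h5

/-- An invariant dominant morphism with one orbit in each geometric fibre to a normal base is universally open. -/
theorem universallyOpen [IsLocallyNoetherian S] [LocallyOfFiniteType G.hom] [UniversallyOpen G.hom]
    [IsIntegral X.left] [IsIntegral Y.left] (hY : ∀ U : Y.left.affineOpens, IsIntegrallyClosed Γ(Y.left, U))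
    [LocallyOfFiniteType X.hom] [LocallyOfFiniteType φ.left] [IsDominant φ.left] (hi : GIT.IsInvariant a φ)
    (hsurj : Function.Surjective (GIT.PsiY a φ hi).base) : UniversallyOpen φ.left :=
  S2568.result (isGeomUnibranch_stalk hY) φ.left (fibreDimAt_eq hi hsurj)

end Groth.Agent.OrbQuot14
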