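/-
Invariant functions of an invariant morphism with one orbit in each geometric fibre, in characteristic zero.
-/
import Groth.Agent.Lib.GeomRed18.Perfect
import Groth.Agent.Lib.GenFin12.Basic
import Groth.Agent.Lib.MoriNagata2.Alg
import Groth.Prelude.Def_W4bk4git07Quot

set_option autoImplicit false
set_option linter.style.haveILetI false
set_option backward.isDefEq.respectTransparency false
set_option backward.isDefEq.respectTransparency.types false

universe u

open CategoryTheory CategoryTheory.Limits MonoidalCategory CartesianMonoidalCategory AlgebraicGeometry TopologicalSpace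
open scoped TensorProduct MonObj

noncomputable section

namespace Groth.Agent.OrbQuot14

theorem mem_range_of_tmul_comm {K L : Type u} [Field K] [Field L] [Algebra K L] {h : L}
    (e : h ⊗ₜ[K] (1 : L) = (1 : L) ⊗ₜ[K] h) : h ∈ Set.range (algebraMap K L) := by
  by_contra hn
  let p : Submodule K L := LinearMap.range (Algebra.linearMap K L)
  have hp : h ∉ p := fun ⟨c, hc⟩ => hn ⟨c, hc⟩
  obtain ⟨f, hf, hfp⟩ := Submodule.exists_le_ker_of_notMem hp
  have h1 : f (1 : L) = 0 := LinearMap.mem_ker.1 (hfp ⟨1, map_one (algebraMap K L)⟩)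
  obtain ⟨g, hg⟩ := Module.Projective.exists_dual_ne_zero K (one_ne_zero : (1 : L) ≠ 0)
  have h2 := congrArg (fun w => TensorProduct.lid K K (TensorProduct.map f g w)) e
  simp only [TensorProduct.map_tmul, TensorProduct.lid_tmul, h1, smul_eq_mul, zero_mul] at h2
  exact mul_ne_zero hf hg h2

/-- Functions with equal values at all pairs of points over the base come from the base. -/
theorem mem_range_of_forall_eq {K L : Type u} [Field K] [Field L] [CharZero K] [Algebra K L] {h : L}
    (e : ∀ (Ω : Type u) [Field Ω] [IsAlgClosed Ω] (σ₁ σ₂ : L →+* Ω),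
      σ₁.comp (algebraMap K L) = σ₂.comp (algebraMap K L) → σ₁ h = σ₂ h) :
    h ∈ Set.range (algebraMap K L) := by
  haveI : IsReduced (L ⊗[K] L) := GeomRed.isReduced_tensor_of_perfectField L L
  refine mem_range_of_tmul_comm (sub_eq_zero.1 (isNilpotent_iff_eq_zero.mp ?_))
  rw [nilpotent_iff_mem_prime]
  intro q hq
  let R := (L ⊗[K] L) ⧸ q
  let Ω := AlgebraicClosure (FractionRing R)
  let π : L ⊗[K] L →+* Ω :=
    (algebraMap (FractionRing R) Ω).comp ((algebraMap R (FractionRing R)).comp (Ideal.Quotient.mk q))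
  have h' := e Ω (π.comp Algebra.TensorProduct.includeLeftRingHom)
    (π.comp (Algebra.TensorProduct.includeRight (R := K) (A := L) (B := L)).toRingHom) (by
      refine RingHom.ext fun c => congrArg π ?_
      exact (Algebra.TensorProduct.algebraMap_apply c).symm.trans
        ((Algebra.TensorProduct.includeRight (R := K) (A := L) (B := L)).commutes c).symm)
  have hinj : Function.Injective ((algebraMap (FractionRing R) Ω).comp (algebraMap R (FractionRing R))) :=
    (algebraMap (FractionRing R) Ω).injective.comp (IsFractionRing.injective R (FractionRing R))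
  refine Ideal.Quotient.eq_zero_iff_mem.1 (hinj ?_)
  rw [map_zero]
  show π _ = 0
  rw [map_sub, sub_eq_zero]
  exact h'

variable {S : Scheme.{u}} {G X Y : Over S} [GrpObj G] {a : AlgGrp.Action G X} {φ : X ⟶ Y}

theorem appLE_congr' {P Q : Scheme.{u}} {f g : P ⟶ Q} (e : f = g) (U : Q.Opens) (O : P.Opens) (h₁ h₂) (s : Γ(Q, U)) :
    f.appLE U O h₁ s = g.appLE U O h₂ s := by
  subst e; rfl

/-- A point of `X` at the generic point given by an embedding of the function field. -/
def genPt [IsIntegral X.left] {Ω : Type u} [Field Ω] (σ : X.left.functionField →+* Ω) :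
    Spec (CommRingCat.of Ω) ⟶ X.left :=
  Spec.map (CommRingCat.ofHom σ) ≫ X.left.fromSpecStalk (genericPoint X.left)

theorem genPt_apply [IsIntegral X.left] {Ω : Type u} [Field Ω] (σ : X.left.functionField →+* Ω)
    (U : X.left.Opens) (hU : genericPoint X.left ∈ U) (h : ⊤ ≤ genPt σ ⁻¹ᵁ U) (s : Γ(X.left, U)) :
    (genPt σ).appLE U ⊤ h s =
      (Scheme.ΓSpecIso (CommRingCat.of Ω)).inv (σ (X.left.presheaf.germ U (genericPoint X.left) hU s)) := by
  have h' : ⊤ ≤ X.left.fromSpecStalk (genericPoint X.left) ⁻¹ᵁ U := fun z _ => by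
    have hr : X.left.fromSpecStalk (genericPoint X.left) z ∈ Set.range (X.left.fromSpecStalk (genericPoint X.left)) :=
      ⟨z, rfl⟩
    rw [Scheme.range_fromSpecStalk] at hr
    exact (hr : _ ⤳ genericPoint X.left).mem_open U.2 hU
  have e1 : (X.left.fromSpecStalk (genericPoint X.left)).appLE U ⊤ h' =
      X.left.presheaf.germ U (genericPoint X.left) hU ≫ (Scheme.ΓSpecIso X.left.functionField).inv := by
    rw [Scheme.Hom.appLE, Scheme.fromSpecStalk_app hU, Category.assoc, Category.assoc, ← Functor.map_comp, ← op_comp,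
      homOfLE_comp]
    erw [CategoryTheory.Functor.map_id, Category.comp_id]
  have e2 : genPt σ = Spec.map (CommRingCat.ofHom σ) ≫ X.left.fromSpecStalk (genericPoint X.left) := rfl
  rw [appLE_congr' e2 U ⊤ h (fun z _ => h' trivial),
    ← Scheme.Hom.appLE_comp_appLE (Spec.map (CommRingCat.ofHom σ)) _ U ⊤ ⊤ h' le_top, e1]
  have e3 := Scheme.ΓSpecIso_inv_naturality (CommRingCat.ofHom σ)
  rw [Category.assoc, show (Spec.map (CommRingCat.ofHom σ)).appLE ⊤ ⊤ le_top = (Spec.map (CommRingCat.ofHom σ)).appTop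
    from (Scheme.Hom.app_eq_appLE _).symm]
  erw [← e3]
  rfl

variable [IsIntegral X.left] [IsIntegral Y.left]

/-- The extension of function fields. -/
def funMap (hη : φ.left (genericPoint X.left) = genericPoint Y.left) :
    Y.left.functionField ⟶ X.left.functionField :=
  Y.left.presheaf.stalkSpecializes (specializes_of_eq hη) ≫ φ.left.stalkMap (genericPoint X.left)

theorem germ_funMap (hη : φ.left (genericPoint X.left) = genericPoint Y.left)
    (V : Y.left.Opens) (hV : genericPoint Y.left ∈ V) (r : Γ(Y.left, V)) :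
    funMap hη (Y.left.presheaf.germ V (genericPoint Y.left) hV r) =
      X.left.presheaf.germ (φ.left ⁻¹ᵁ V) (genericPoint X.left)
        (show φ.left (genericPoint X.left) ∈ V from hη ▸ hV) (φ.left.app V r) := by
  rw [funMap, CommRingCat.comp_apply, TopCat.Presheaf.germ_stalkSpecializes_apply, Scheme.Hom.germ_stalkMap_apply]

theorem generic_mem {Z : Scheme.{u}} [IsIntegral Z] {U : Z.Opens} {z : Z} (h : z ∈ U) : genericPoint Z ∈ U :=
  (genericPoint_specializes z).mem_open U.2 h

/-- An invariant section is a rational function of the base. -/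
theorem exists_rational [CharZero Y.left.functionField] (hη : φ.left (genericPoint X.left) = genericPoint Y.left)
    (hii : ∀ (Ω : Type u) [Field Ω] [IsAlgClosed Ω] (T : Over S) (_ : T.left ≅ Spec (CommRingCat.of Ω))
      (x₁ x₂ : T ⟶ X), x₁ ≫ φ = x₂ ≫ φ → ∃ g : T ⟶ G, lift g x₂ ≫ a.act = x₁)
    (U : Y.left.Opens) (hU : genericPoint Y.left ∈ U) (f : Γ(X.left, φ.left ⁻¹ᵁ U))
    (hf : GIT.IsInvSection a φ U f) :
    ∃ c : Y.left.functionField, funMap hη c =
      X.left.presheaf.germ (φ.left ⁻¹ᵁ U) (genericPoint X.left)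
        (show φ.left (genericPoint X.left) ∈ U from hη ▸ hU) f := by
  letI : Algebra Y.left.functionField X.left.functionField := (funMap hη).hom.toAlgebra
  refine mem_range_of_forall_eq (K := Y.left.functionField) fun Ω _ _ σ₁ σ₂ hσ => ?_
  have hc : genPt σ₁ ≫ φ.left = genPt σ₂ ≫ φ.left := by
    have e : ∀ σ : X.left.functionField →+* Ω, genPt σ ≫ φ.left =
        Spec.map (CommRingCat.ofHom (σ.comp (φ.left.stalkMap (genericPoint X.left)).hom)) ≫
          Y.left.fromSpecStalk (φ.left (genericPoint X.left)) := fun σ => by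
      rw [genPt, Category.assoc, ← Scheme.SpecMap_stalkMap_fromSpecStalk, ← Category.assoc, ← Spec.map_comp]
      rfl
    rw [e, e]
    congr 3
    refine RingHom.ext fun c => ?_
    obtain ⟨d, rfl⟩ : ∃ d, Y.left.presheaf.stalkSpecializes (specializes_of_eq hη) d = c :=
      ⟨Y.left.presheaf.stalkSpecializes (specializes_of_eq hη.symm) c, by
        rw [← CommRingCat.comp_apply, TopCat.Presheaf.stalkSpecializes_comp, TopCat.Presheaf.stalkSpecializes_refl]
        rfl⟩
    exact RingHom.congr_fun hσ d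
  let T : Over S := Over.mk (genPt σ₁ ≫ X.hom)
  let x₁ : T ⟶ X := Over.homMk (genPt σ₁) rfl
  let x₂ : T ⟶ X := Over.homMk (genPt σ₂) (by
    show genPt σ₂ ≫ X.hom = genPt σ₁ ≫ X.hom
    rw [← Over.w φ, reassoc_of% hc])
  obtain ⟨g, hg⟩ := hii Ω T (Iso.refl _) x₁ x₂ (by ext1; exact hc)
  let t : T.left ⟶ (G ⊗ X).left := (lift g x₂).left
  have h1 : t ≫ a.act.left = genPt σ₁ := by rw [← Over.comp_left, hg]; rfl
  have h2 : t ≫ (snd G X).left = genPt σ₂ := by rw [← Over.comp_left, lift_snd]; rfl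
  let W := φ.left ⁻¹ᵁ U
  let O := a.act.left ⁻¹ᵁ W ⊓ (snd G X).left ⁻¹ᵁ W
  have hW : genericPoint X.left ∈ W := show φ.left (genericPoint X.left) ∈ U from hη ▸ hU
  have hin : ∀ σ : X.left.functionField →+* Ω, ⊤ ≤ genPt σ ⁻¹ᵁ W := by
    intro σ z _
    show genPt σ z ∈ W
    have : genPt σ z ⤳ genericPoint X.left → genPt σ z ∈ W := fun hs => ?_
    · exact this (by
        have hr : genPt σ z ∈ Set.range (X.left.fromSpecStalk (genericPoint X.left)) := by
          rw [genPt, Scheme.Hom.comp_apply]; exact ⟨_, rfl⟩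
        rw [Scheme.range_fromSpecStalk] at hr
        exact hr)
    · exact hs.mem_open W.2 hW
  have hO : ⊤ ≤ t ⁻¹ᵁ O := by
    refine fun z hz => ⟨?_, ?_⟩
    · show (t ≫ a.act.left) z ∈ W
      rw [h1]; exact hin σ₁ hz
    · show (t ≫ (snd G X).left) z ∈ W
      rw [h2]; exact hin σ₂ hz
  have key : (genPt σ₁).appLE W ⊤ (hin σ₁) f = (genPt σ₂).appLE W ⊤ (hin σ₂) f := by
    refine (appLE_congr' h1.symm W ⊤ (hin σ₁) (fun z hz => (hO hz).1) f).trans
      (Eq.trans ?_ (appLE_congr' h2 W ⊤ (fun z hz => (hO hz).2) (hin σ₂) f))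
    rw [← Scheme.Hom.appLE_comp_appLE t a.act.left W O ⊤ inf_le_left hO,
      ← Scheme.Hom.appLE_comp_appLE t (snd G X).left W O ⊤ inf_le_right hO, CommRingCat.comp_apply,
      CommRingCat.comp_apply]
    exact congrArg _ hf
  rw [genPt_apply σ₁ W hW, genPt_apply σ₂ W hW] at key
  exact (ConcreteCategory.bijective_of_isIso (Scheme.ΓSpecIso (CommRingCat.of Ω)).inv).1 key

/-- A rational function of the base whose pull-back is regular is regular. -/
theorem exists_section [IsLocallyNoetherian Y.left]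
    (hY : ∀ U : Y.left.affineOpens, IsIntegrallyClosed Γ(Y.left, U)) (hsurj : Function.Surjective φ.left.base)
    (hη : φ.left (genericPoint X.left) = genericPoint Y.left) (V : Y.left.Opens) (hV : IsAffineOpen V)
    (hVη : genericPoint Y.left ∈ V) (c : Y.left.functionField) (f : Γ(X.left, φ.left ⁻¹ᵁ V))
    (hc : funMap hη c = X.left.presheaf.germ (φ.left ⁻¹ᵁ V) (genericPoint X.left)
      (show φ.left (genericPoint X.left) ∈ V from hη ▸ hVη) f) :
    ∃ r : Γ(Y.left, V), Y.left.presheaf.germ V (genericPoint Y.left) hVη r = c := by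
  haveI : Nonempty (V : Y.left.Opens) := ⟨⟨_, hVη⟩⟩
  haveI : IsIntegrallyClosed Γ(Y.left, V) := hY ⟨V, hV⟩
  haveI : IsNoetherianRing Γ(Y.left, V) := IsLocallyNoetherian.component_noetherian ⟨V, hV⟩
  haveI := functionField_isFractionRing_of_isAffineOpen Y.left V hV
  have halg : ∀ r : Γ(Y.left, V),
      algebraMap Γ(Y.left, V) Y.left.functionField r = Y.left.presheaf.germ V (genericPoint Y.left) hVη r :=
    fun _ => rfl
  refine IsIntegrallyClosed.isIntegral_iff.1 (MoriNagata.isIntegral_of_forall_height_one (N := Γ(Y.left, V)) c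
    fun P _ hP => ?_)
  obtain ⟨v, hv, hv'⟩ := MoriNagata.exists_valuation (L := Y.left.functionField) P hP
  rcases le_or_gt (v c) 1 with h | h
  · obtain ⟨n, s, hs, e⟩ := (hv c).1 h
    exact ⟨s, hs, e ▸ isIntegral_algebraMap⟩
  · exfalso
    have hc0 : c ≠ 0 := fun e => by rw [e, map_zero] at h; exact not_lt.2 zero_le h
    have hi : v c⁻¹ < 1 := by rw [map_inv₀]; exact inv_lt_one_of_one_lt₀ h
    obtain ⟨n, s, hs, e⟩ := (hv c⁻¹).1 hi.le
    have hn : n ∈ P := by
      refine (hv' n).1 ?_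
      rw [← e, map_mul]
      exact lt_of_le_of_lt (mul_le_of_le_one_left' ((hv _).2 ⟨s, 1, P.ne_top_iff_one.1 (Ideal.IsPrime.ne_top ‹_›),
        by rw [map_one, one_mul]⟩)) hi
    have e1 : funMap hη (algebraMap _ _ n) * funMap hη c = funMap hη (algebraMap _ _ s) := by
      rw [← map_mul, ← e, mul_assoc, inv_mul_cancel₀ hc0, mul_one]
    rw [halg, halg, germ_funMap, germ_funMap, hc, ← map_mul] at e1
    haveI : Nonempty (φ.left ⁻¹ᵁ V : X.left.Opens) := ⟨⟨_, show φ.left (genericPoint X.left) ∈ V from hη ▸ hVη⟩⟩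
    have e2 : φ.left.app V n * f = φ.left.app V s := Scheme.germToFunctionField_injective X.left _ e1
    obtain ⟨x, hx⟩ := hsurj (hV.fromSpec ⟨P, inferInstance⟩)
    have hmem : ∀ r : Γ(Y.left, V), x ∈ X.left.basicOpen (φ.left.app V r) ↔ r ∉ P := fun r => by
      rw [← Scheme.preimage_basicOpen]
      show φ.left x ∈ Y.left.basicOpen r ↔ _
      rw [hx]
      show (⟨P, inferInstance⟩ : PrimeSpectrum Γ(Y.left, V)) ∈ hV.fromSpec ⁻¹ᵁ Y.left.basicOpen r ↔ _
      rw [hV.fromSpec_preimage_basicOpen]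
      rfl
    have h3 : x ∈ X.left.basicOpen (φ.left.app V s) := (hmem s).2 hs
    rw [← e2, X.left.basicOpen_mul] at h3
    exact (hmem n).1 h3.1 hn

/-- Invariant sections are exactly the functions from the base. -/
theorem sections [IsLocallyNoetherian Y.left] [CharZero Y.left.functionField]
    (hY : ∀ U : Y.left.affineOpens, IsIntegrallyClosed Γ(Y.left, U)) (hsurj : Function.Surjective φ.left.base)
    (hη : φ.left (genericPoint X.left) = genericPoint Y.left) (hi : GIT.IsInvariant a φ)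
    (hii : ∀ (Ω : Type u) [Field Ω] [IsAlgClosed Ω] (T : Over S) (_ : T.left ≅ Spec (CommRingCat.of Ω))
      (x₁ x₂ : T ⟶ X), x₁ ≫ φ = x₂ ≫ φ → ∃ g : T ⟶ G, lift g x₂ ≫ a.act = x₁)
    (U : Y.left.Opens) :
    Function.Injective (φ.left.app U) ∧ Set.range (φ.left.app U) = {f | GIT.IsInvSection a φ U f} := by
  by_cases hU : genericPoint Y.left ∈ U
  swap
  · have hUe : U = ⊥ := Opens.ext (Set.eq_empty_of_forall_notMem fun y hy => hU (generic_mem hy))
    subst hUe
    refine ⟨fun s t _ => Subsingleton.elim s t, Set.ext fun f => ⟨?_, fun _ => ⟨0, ?_⟩⟩⟩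
    · rintro ⟨r, rfl⟩
      rw [show r = 0 from Subsingleton.elim _ _, map_zero]
      show _ = _
      rw [map_zero, map_zero]
    · haveI : Subsingleton Γ(X.left, φ.left ⁻¹ᵁ ⊥) := by
        rw [Scheme.Hom.preimage_bot]; infer_instance
      exact Subsingleton.elim _ _
  have hW : genericPoint X.left ∈ φ.left ⁻¹ᵁ U := show φ.left (genericPoint X.left) ∈ U from hη ▸ hU
  haveI : Nonempty (φ.left ⁻¹ᵁ U : X.left.Opens) := ⟨⟨_, hW⟩⟩
  haveI : Nonempty (U : Y.left.Opens) := ⟨⟨_, hU⟩⟩
  have hinjg : Function.Injective fun r : Γ(Y.left, U) => funMap hη (Y.left.presheaf.germ U (genericPoint Y.left) hU r) :=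
    (funMap hη).hom.injective.comp (Scheme.germToFunctionField_injective Y.left U)
  refine ⟨fun s t h => hinjg (by simp only [germ_funMap, h]), Set.ext fun f => ⟨?_, fun hf => ?_⟩⟩
  · rintro ⟨r, rfl⟩
    show _ = _
    rw [← CommRingCat.comp_apply, ← CommRingCat.comp_apply, Scheme.Hom.app_eq_appLE,
      Scheme.Hom.appLE_comp_appLE, Scheme.Hom.appLE_comp_appLE]
    exact appLE_congr' hi.left _ _ _ _ _
  obtain ⟨c, hc⟩ := exists_rational hη hii U hU f hf
  let Idx := {V : Y.left.affineOpens // V.1 ≤ U ∧ genericPoint Y.left ∈ V.1}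
  have hloc : ∀ V : Idx, ∃ r : Γ(Y.left, V.1.1), Y.left.presheaf.germ V.1.1 (genericPoint Y.left) V.2.2 r = c := fun V =>
    exists_section hY hsurj hη V.1.1 V.1.2 V.2.2 c
      (X.left.presheaf.map (homOfLE (show φ.left ⁻¹ᵁ V.1.1 ≤ φ.left ⁻¹ᵁ U from fun z hz => V.2.1 hz)).op f)
      (by rw [hc, TopCat.Presheaf.germ_res_apply])
  choose r hr using hloc
  obtain ⟨s, hs, -⟩ := Y.left.sheaf.existsUnique_gluing' (fun V : Idx => V.1.1) U (fun V => homOfLE V.2.1)
    (fun y hy => by
      obtain ⟨A, hA, hyA, hAU⟩ := exists_isAffineOpen_mem_and_subset (U := U) hy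
      exact Opens.mem_iSup.2 ⟨⟨⟨A, hA⟩, hAU, generic_mem hyA⟩, hyA⟩) r (fun A B => by
      haveI : Nonempty (A.1.1 ⊓ B.1.1 : Y.left.Opens) := ⟨⟨_, A.2.2, B.2.2⟩⟩
      refine Scheme.germToFunctionField_injective Y.left (A.1.1 ⊓ B.1.1) ?_
      show Y.left.presheaf.germ _ _ _ (Y.left.presheaf.map _ (r A)) =
        Y.left.presheaf.germ _ _ _ (Y.left.presheaf.map _ (r B))
      rw [TopCat.Presheaf.germ_res_apply, TopCat.Presheaf.germ_res_apply, hr, hr])
  refine ⟨s, Scheme.germToFunctionField_injective X.left (φ.left ⁻¹ᵁ U) ?_⟩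
  show X.left.presheaf.germ _ _ hW (φ.left.app U s) = X.left.presheaf.germ _ _ hW f
  rw [← germ_funMap hη U hU s, ← hc]
  obtain ⟨A, hA, hAη, hAU⟩ := exists_isAffineOpen_mem_and_subset (U := U) hU
  have := hs ⟨⟨A, hA⟩, hAU, hAη⟩
  rw [← hr ⟨⟨A, hA⟩, hAU, hAη⟩, ← this]
  exact congrArg _ (TopCat.Presheaf.germ_res_apply _ _ _ _ _).symm

end Groth.Agent.OrbQuot14
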